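import Groth.Agent.ShStab.K752.Fund

/-!
# S18559: the family nodes of the tensor product theorem (statements)
-/

set_option autoImplicit false
universe u
open CategoryTheory CategoryTheory.Limits AlgebraicGeometry Opposite TopologicalSpace Module

namespace K991.FamT

open K849.DvrLat K849.CstTor K849.CstDeg K849.Fam K752.Semi K752.FamPair K752.FamFrob K752.FamDual

attribute [local instance 50] modAt

/-- Slope semistability of a family of lattices. -/
def SSt {X : Scheme.{u}} [IsIntegral X] [RegOne X] (δ : C1 X → ℚ) {V : Type u} [AddCommGroup V]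
    [Module (X.presheaf.stalk (genericPoint X)) V] (Λ : LFam X V) : Prop :=
  ∀ W : Submodule X.functionField V,
    (finrank X.functionField V : ℚ) * Deg δ (sub Λ W) ≤ finrank X.functionField W * Deg δ Λ

/-- Strong slope semistability of a family of lattices: all Frobenius twists are semistable. -/
def Strong {X : Scheme.{u}} [IsIntegral X] [RegOne X] (p : ℕ) (δ : C1 X → ℚ) {V : Type u}
    [AddCommGroup V] [Module (X.presheaf.stalk (genericPoint X)) V] (Λ : LFam X V) : Prop :=
  ∀ (m : ℕ) (V' : Type u) [AddCommGroup V'] [Module (X.presheaf.stalk (genericPoint X)) V']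
    (T : Tw (p ^ m) X.functionField V V'), SSt δ (tw T Λ)

/-- The span of the values of a pairing. -/
noncomputable def imQ {X : Scheme.{u}} [IsIntegral X] {A B M : Type u} [AddCommGroup A]
    [Module (X.presheaf.stalk (genericPoint X)) A] [AddCommGroup B]
    [Module (X.presheaf.stalk (genericPoint X)) B] [AddCommGroup M]
    [Module (X.presheaf.stalk (genericPoint X)) M]
    (φ : A →ₗ[X.functionField] Dl X B →ₗ[X.functionField] M) : Submodule X.functionField M :=
  Submodule.span X.functionField {x | ∃ a q, φ a q = x}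

/-- (N4) **The tensor product theorem**, for a pairing `A × B^∨ → M` of families: the span `Q` of the
values has slope at least `μ(A) - μ(B)`. -/
def StmtMT (X : Scheme.{u}) [IsIntegral X] [IsNoetherian X] [RegOne X] (p : ℕ) : Prop :=
  ∀ (δ : C1 X → ℚ), IsPrin δ → (∀ y, 0 ≤ δ y) →
  ∀ (A B M : Type u) [AddCommGroup A] [Module (X.presheaf.stalk (genericPoint X)) A]
    [AddCommGroup B] [Module (X.presheaf.stalk (genericPoint X)) B]
    [AddCommGroup M] [Module (X.presheaf.stalk (genericPoint X)) M]
    [Module.Finite X.functionField A] [Module.Finite X.functionField B]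
    [Module.Finite X.functionField M]
    (ΛA : LFam X A) (ΛB : LFam X B) (ΛM : LFam X M), IsFam ΛA → IsFam ΛB → IsFam ΛM →
    Strong p δ ΛA → Strong p δ ΛB →
    ∀ φ : A →ₗ[X.functionField] Dl X B →ₗ[X.functionField] M, φ ≠ 0 →
      (∀ y, ∀ a ∈ ΛA y, ∀ q ∈ dual ΛB y, φ a q ∈ ΛM y) →
      (finrank X.functionField (imQ φ) : ℚ) * ((finrank X.functionField B : ℚ) * Deg δ ΛA -
        finrank X.functionField A * Deg δ ΛB) ≤
        finrank X.functionField A * finrank X.functionField B * Deg δ (sub ΛM (imQ φ))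

/-- (N4a) **Strongly semistable families have no nonzero integral multilinear form** unless the sum of
the slopes is at most zero. -/
def StmtForm (X : Scheme.{u}) [IsIntegral X] [IsNoetherian X] [RegOne X] (p : ℕ) : Prop :=
  ∀ (δ : C1 X → ℚ), IsPrin δ → (∀ y, 0 ≤ δ y) →
  ∀ (I : Type) [Fintype I] [DecidableEq I] (V : I → Type u) [∀ i, AddCommGroup (V i)]
    [∀ i, Module (X.presheaf.stalk (genericPoint X)) (V i)]
    [∀ i, Module.Finite X.functionField (V i)] (Λ : ∀ i, LFam X (V i)),
    (∀ i, IsFam (Λ i)) → (∀ i, Strong p δ (Λ i)) →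
  ∀ (A : Type) [Fintype A] [DecidableEq A] (c0 : A → I)
    (t : MultilinearMap X.functionField (fun a => V (c0 a)) X.functionField), t ≠ 0 →
    (∀ y : C1 X, ∀ v : ∀ a, V (c0 a), (∀ a, v a ∈ Λ (c0 a) y) →
      ∃ r : X.presheaf.stalk y.1, algebraMap _ X.functionField r = t v) →
    ∑ a, Deg δ (Λ (c0 a)) / (finrank X.functionField (V (c0 a)) : ℚ) ≤ 0

/-- (N5) **Twists of semistable families are semistable** if the subspaces of `M` have small slope. -/
def StmtF (X : Scheme.{u}) [IsIntegral X] [IsNoetherian X] [RegOne X] (p : ℕ) : Prop :=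
  ∀ (δ : C1 X → ℚ), IsPrin δ → (∀ y, 0 ≤ δ y) → (∀ y, ∃ n : ℤ, δ y = n) →
  ∀ (M : Type u) [AddCommGroup M] [Module (X.presheaf.stalk (genericPoint X)) M]
    [Module.Finite X.functionField M] (ΛM : LFam X M), IsFam ΛM →
  ∀ d : Derivation ℤ X.functionField M,
    (∀ (y : C1 X) (r : X.presheaf.stalk y.1), d (algebraMap _ X.functionField r) ∈ ΛM y) →
    (∀ c, d c = 0 → ∃ a, a ^ p = c) →
  ∀ r : ℕ, (∀ a b : ℕ, 1 ≤ a → 1 ≤ b → a + b ≤ r → ∀ U : Submodule X.functionField M, U ≠ ⊥ →
      (Nat.lcm a b : ℚ) * Deg δ (sub ΛM U) < finrank X.functionField U) →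
  ∀ (V : Type u) [AddCommGroup V] [Module (X.presheaf.stalk (genericPoint X)) V]
    [Module.Finite X.functionField V] (Λ : LFam X V), IsFam Λ → finrank X.functionField V ≤ r →
    SSt δ Λ →
    ∀ (V' : Type u) [AddCommGroup V'] [Module (X.presheaf.stalk (genericPoint X)) V']
      (T : Tw p X.functionField V V'), SSt δ (tw T Λ)

end K991.FamT
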