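import Mathlib
import Groth.Agent.ShStab.K865.TenAct

/-!
# S18559: the linear algebra nodes of the tensor product theorem (statements)

Notation of `K865.TenAct`.  `R` = set of all basis vectors, `b0 : R → I` = bundle, `A` = slots.
-/

set_option autoImplicit false
universe u

namespace K991.Ten

open K865.TenAct
open scoped BigOperators

section defs

variable {A R I : Type*} [Fintype A]

/-- The weight of a multi-index. -/
def wt (w : R → ℕ) (J : A → R) : ℕ := ∑ a, w (J a)

/-- The part of weight `c` of a tensor. -/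
def part {k : Type*} [Zero k] (w : R → ℕ) (c : ℕ) (s : (A → R) → k) : (A → R) → k :=
  fun J => if wt w J = c then s J else 0

/-- The matrices preserving all `span {e_j : α ≤ w j}`. -/
def IsPar {k : Type*} [Zero k] (w : R → ℕ) (z : Matrix R R k) : Prop :=
  ∀ i j, w i < w j → z i j = 0

/-- Evaluation at a point of a ring of characteristic `p` of a polynomial over `F_p`. -/
noncomputable def ev (p : ℕ) {k : Type*} [CommRing k] [CharP k p] {σ : Type*} (x : σ → k)
    (f : MvPolynomial σ (ZMod p)) : k :=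
  MvPolynomial.eval₂ (ZMod.castHom (dvd_refl p) k) x f

/-- `(w j)_j` is in `N` times the convex hull of the `cnt J`, `J ∈ supp u`. -/
def InHull {k : Type*} [Zero k] [Fintype R] [DecidableEq R] [DecidableEq A]
    (N : ℕ) (w : R → ℕ) (u : (A → R) → k) : Prop :=
  ∃ t : (A → R) → ℚ, (∀ J, 0 ≤ t J) ∧ (∀ J, u J = 0 → t J = 0) ∧ (∑ J, t J = (N : ℚ)) ∧
    ∀ j, (w j : ℚ) = ∑ J, t J * (cnt J j : ℚ)

end defs

/-- (N1) Kempf: the optimal weights and flag, over any field. -/
def StmtOpt : Prop :=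
  ∀ (k : Type u) [Field k] (R A I : Type) [Fintype R] [DecidableEq R] [Fintype A] [DecidableEq A]
    [DecidableEq I] (b0 : R → I) (s : (A → R) → k), s ≠ 0 →
    ∃ (N : ℕ) (w : R → ℕ) (c : ℕ) (g : Matrix R R k), 0 < N ∧ IsBlk b0 g ∧ IsUnit g.det ∧
      (∀ J, act g s J ≠ 0 → c ≤ wt w J) ∧
      (∀ h : Matrix R R k, IsBlk (fun j => (b0 j, w j)) h → IsUnit h.det →
        InHull N w (act h (part w c (act g s)))) ∧
      (∀ g' : Matrix R R k, IsBlk b0 g' → IsUnit g'.det →
        (∀ J, act g' s J ≠ 0 → c ≤ wt w J) → IsPar w (g' * g⁻¹))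

/-- (N3) The semi-invariant, over an algebraically closed field. -/
def StmtM1 (p : ℕ) : Prop :=
  ∀ (k : Type u) [Field k] [IsAlgClosed k] [CharP k p] (R A B : Type) [Fintype R] [DecidableEq R]
    [Fintype A] [DecidableEq A] [DecidableEq B] (b : R → B) (w : B → ℕ) (N : ℕ)
    (u : (A → R) → k),
    (∀ h : Matrix R R k, IsBlk b h → IsUnit h.det → InHull N (fun j => w (b j)) (act h u)) →
    ∃ (D : ℕ) (f : MvPolynomial (A → R) (ZMod p)), 0 < D ∧
      (∀ (S : Type u) [CommRing S] [CharP S p] (h : Matrix R R S), IsBlk b h →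
        ∀ x : (A → R) → S, ev p (act h x) f = chi b w h ^ D * ev p x f) ∧
      ev p u f ≠ 0

/-- (N2) The output of the linear algebra: over an arbitrary field of characteristic `p`, after a
Frobenius twist. -/
def StmtLA (p : ℕ) : Prop :=
  ∀ (K : Type u) [Field K] [CharP K p] (R A I : Type) [Fintype R] [DecidableEq R]
    [Fintype A] [DecidableEq A] [DecidableEq I] (b0 : R → I) (c0 : A → I) (s : (A → R) → K),
    s ≠ 0 → (∀ J, s J ≠ 0 → ∀ a, b0 (J a) = c0 a) →
    ∃ (m N : ℕ) (w : R → ℕ) (c : ℕ) (g : Matrix R R K) (f : MvPolynomial (A → R) (ZMod p)),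
      0 < N ∧ IsBlk b0 g ∧ IsUnit g.det ∧
      (∀ J, act g (fun J => s J ^ p ^ m) J ≠ 0 → c ≤ wt w J) ∧
      (∀ i, ∑ j ∈ Finset.univ.filter (fun j => b0 j = i), w j =
        N * (Finset.univ.filter (fun a => c0 a = i)).card) ∧
      (∀ (S : Type u) [CommRing S] [CharP S p] (h : Matrix R R S),
        IsBlk (fun j => (b0 j, w j)) h → ∀ x : (A → R) → S,
          ev p (act h x) f = chi (fun j => (b0 j, w j)) Prod.snd h * ev p x f) ∧
      ev p (part w c (act g (fun J => s J ^ p ^ m))) f ≠ 0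

end K991.Ten
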