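import Groth.Agent.ShStab.K991.MTForm

/-!
# Strongly semistable families have no nonzero integral multilinear forms of positive slope: the proof
-/

set_option autoImplicit false
universe u
open CategoryTheory CategoryTheory.Limits AlgebraicGeometry Opposite TopologicalSpace Module

namespace K991.MTForm

open K849.DvrLat K849.CstTor K849.CstDeg K849.Fam K752.Semi K752.FamPair K752.FamFrob K752.FamDual K752.Ranks
open K865.TenAct K991.Ten K991.FamT K991.Iwas K991.TenForm

section act

/-- The action of an integral matrix on an integral tensor. -/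
theorem act_int {K O : Type*} [Field K] [CommRing O] [Algebra O K] {A R : Type} [Fintype A] [Fintype R]
    {g : Matrix R R K} {s : (A → R) → K} (hg : ∀ i j, ∃ r : O, algebraMap O K r = g i j)
    (hs : ∀ J, ∃ r : O, algebraMap O K r = s J) (J : A → R) : ∃ r : O, algebraMap O K r = act g s J := by
  classical
  rw [act_apply]
  change _ ∈ (algebraMap O K).range
  exact Subring.sum_mem _ fun J' _ => Subring.mul_mem _ (Subring.prod_mem _ fun a _ => hg _ _) (hs J')

/-- Twisting tensors. -/
theorem act_pow {K : Type*} [Field K] {p m : ℕ} [Fact p.Prime] [CharP K p] {A R : Type} [Fintype A] [Fintype R]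
    (g : Matrix R R K) (s : (A → R) → K) :
    act (g.map (iterateFrobenius K p m)) (fun J => s J ^ p ^ m) = fun J => act g s J ^ p ^ m := by
  have h := map_act (iterateFrobenius K p m) g s
  simp only [iterateFrobenius_def] at h
  exact h.symm

theorem zm_ne {K : Type*} [Field K] {I : Type} [Fintype I] [DecidableEq I] {V : I → Type*}
    [∀ i, AddCommGroup (V i)] [∀ i, Module K (V i)] {ρ : I → Type} [∀ i, Fintype (ρ i)] [∀ i, DecidableEq (ρ i)]
    (b : ∀ i, Basis (ρ i) K (V i)) (c : ∀ i, ρ i → V i) {i i' : I} (h : i ≠ i') (j : ρ i) (j' : ρ i') :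
    zm b c ⟨i, j⟩ ⟨i', j'⟩ = 0 := isBlk_zm b c ⟨i, j⟩ ⟨i', j'⟩ h

variable {K : Type*} [Field K] {p m : ℕ} [Fact p.Prime] [CharP K p] {I : Type} [Fintype I] [DecidableEq I]
  {V : I → Type*} [∀ i, AddCommGroup (V i)] [∀ i, Module K (V i)] {r : I → ℕ}

/-- The matrix of a twisted basis. -/
theorem zm_frob (b c : ∀ i, Basis (Fin (r i)) K (V i)) :
    zm b (fun i => (twB p m (b i)).tb (c i)) = (zm b fun i => c i).map (iterateFrobenius K p m) := by
  ext ⟨i, j⟩ ⟨i', j'⟩
  rw [Matrix.map_apply]
  by_cases h : i = i'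
  · subst h
    rw [zm_apply, zm_apply, Tw.tb_apply, twB_ψ, iterateFrobenius_def]
  · rw [zm_ne _ _ h, zm_ne _ _ h, map_zero]

end act

variable {X : Scheme.{u}} [IsIntegral X] [IsNoetherian X] [RegOne X]

attribute [local instance 50] modAt

variable {p : ℕ} [Fact p.Prime] [CharP X.functionField p]

/-- **(N4a)** -/
theorem stmtForm (hLA : StmtLA.{u} p) : StmtForm X p := by
  classical
  intro δ hδ h0 I _ _ V _ _ _ Λ hΛ hst A _ _ c0 t ht hint
  let r : I → ℕ := fun i => finrank X.functionField (V i)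
  let b : ∀ i, Basis (Fin (r i)) X.functionField (V i) := fun i => Module.finBasis X.functionField (V i)
  obtain ⟨m, N, w, c, g, f, hN, hgb, hgu, hsupp, hwsum, hsemi, hne⟩ :=
    hLA X.functionField (Σ i, Fin (r i)) A I Sigma.fst c0 (ten t (fun i => b i)) (ten_ne_zero ht b)
      (fun J hJ a => ten_supp t _ J hJ a)
  obtain ⟨B, hB⟩ := exists_bases b hgb hgu
  let T : ∀ i, Tw (p ^ m) X.functionField (V i) (V i) := fun i => twB p m (b i)
  have hΛ' : ∀ i, IsFam (tw (T i) (Λ i)) := fun i => (hΛ i).tw (T i) (b i)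
  let wi : ∀ i, Fin (r i) → ℕ := fun i k => w ⟨i, k⟩
  choose cy hcy htri hdiag hfinord hsum using fun i => exists_fam hδ (hΛ' i) (B i) (wi i)
  -- integrality
  have hint' : ∀ (y : C1 X) (J : A → Σ i, Fin (r i)), ∃ ρ : X.presheaf.stalk y.1,
      algebraMap _ X.functionField ρ =
        act (zm B (fun i => cy i y)) (act g fun J => ten t (fun i => b i) J ^ p ^ m) J := by
    intro y
    choose c1 hc1 using fun i => ((hΛ i).lat y).exists_basis _ (b i)
    have h1 : ∀ i, sp (X.presheaf.stalk y.1) (cy i y) = sp (X.presheaf.stalk y.1) ((T i).tb (c1 i)) := fun i => by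
      rw [← hcy i y, tw_sp (T i) (hc1 i)]
    choose U hU using fun i => exists_matrix (X.presheaf.stalk y.1) (h1 i).le
    have h2 : act (zm B (fun i => cy i y)) (act g fun J => ten t (fun i => b i) J ^ p ^ m) =
        act (zm (fun i => (T i).tb (c1 i)) (fun i => cy i y)) (fun J => ten t (fun i => c1 i) J ^ p ^ m) := by
      rw [← act_mul, hB, zm_mul, ← zm_mul b (fun i => (T i).tb (c1 i)), act_mul]
      congr 1
      rw [show zm b (fun i => (T i).tb (c1 i)) = _ from zm_frob (m := m) b c1, act_pow, ← ten_zm]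
    rw [h2]
    refine act_int (fun x x' => ?_) (fun J => ?_)
    · obtain ⟨i, j⟩ := x
      obtain ⟨i', j'⟩ := x'
      by_cases h : i = i'
      · subst h
        rw [zm_apply]
        refine ⟨U i j' j, ?_⟩
        have h3 := congrFun (congrFun (hU i) j') j
        rw [Matrix.map_apply, Basis.toMatrix_apply] at h3
        exact h3
      · exact ⟨0, by rw [zm_ne _ _ h, map_zero]⟩
    · obtain ⟨ρ, hρ⟩ := hint y (fun a => bv (fun i => c1 i) (c0 a) (J a)) (fun a => by
        by_cases h : (J a).1 = c0 a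
        · rw [hc1]
          have h4 : ∀ (x : Σ i, Fin (r i)) (i : I), x.1 = i →
              bv (fun i => c1 i) i x ∈ sp (X.presheaf.stalk y.1) (c1 i) := by
            rintro ⟨i', k⟩ i rfl
            rw [bv_same]
            exact Submodule.subset_span ⟨k, rfl⟩
          exact h4 _ _ h
        · rw [bv_ne _ h]
          exact Submodule.zero_mem _)
      exact ⟨ρ ^ p ^ m, by rw [map_pow, hρ]; rfl⟩
  -- positions
  let pos : (Σ i, Fin (r i)) → ℕ := fun x => ((Tuple.sort (wi x.1)).symm x.2 : ℕ)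
  have hpar : ∀ y, IsPar w (zm B (fun i => cy i y)) := by
    rintro y ⟨i, j⟩ ⟨i', j'⟩ hlt
    by_cases h : i = i'
    · subst h
      rw [zm_apply]
      apply htri
      by_contra hcon
      have h1 := Tuple.monotone_sort (wi i) (not_lt.1 hcon)
      simp only [Function.comp_apply, Equiv.apply_symm_apply] at h1
      exact absurd hlt (not_lt.2 h1)
    · exact zm_ne _ _ h _ _
  let Fv : X.functionField := ev p (part w c (act g fun J => ten t (fun i => b i) J ^ p ^ m)) f
  have hFv : Fv ≠ 0 := hne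
  let o : ∀ i, Fin (r i) → C1 X → ℤ := fun i j y =>
    ordK (X.presheaf.stalk y.1) ((B i).repr (cy i y (Tuple.sort (wi i) j)) (Tuple.sort (wi i) j))
  -- the local inequality
  have hloc : ∀ y : C1 X, 0 ≤ ∑ i, ∑ j, (w ⟨i, Tuple.sort (wi i) j⟩ : ℤ) * o i j y +
      ordK (X.presheaf.stalk y.1) Fv := by
    intro y
    have hchO : CharP (X.presheaf.stalk y.1) p :=
      RingHom.charP (algebraMap (X.presheaf.stalk y.1) X.functionField) (IsFractionRing.injective _ _) p
    have h1 := int_of (O := X.presheaf.stalk y.1) hsupp (fun h hh x => hsemi X.functionField h hh x)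
      (isBlk_zm B (fun i => cy i y)) (hpar y) pos
      (by
        rintro ⟨i, j⟩ ⟨i', j'⟩ h h'
        obtain rfl : i = i' := h
        have h2 : (Tuple.sort (wi i)).symm j = (Tuple.sort (wi i)).symm j' := Fin.ext h'
        rw [Equiv.apply_eq_iff_eq] at h2
        rw [h2])
      (by
        rintro ⟨i, j⟩ ⟨i', j'⟩ h h'
        obtain rfl : i = i' := h
        rw [zm_apply]
        exact htri i y j j' h')
      (hint' y)
    have hd : ∀ x : Σ i, Fin (r i), zm B (fun i => cy i y) x x ≠ 0 := by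
      rintro ⟨i, j⟩
      rw [zm_apply]
      exact hdiag i y j
    have hprod : (∏ x, zm B (fun i => cy i y) x x ^ w x) ≠ 0 :=
      Finset.prod_ne_zero_iff.2 fun x _ => pow_ne_zero _ (hd x)
    have h2 := (ordK_nonneg_iff (X.presheaf.stalk y.1) (mul_ne_zero hprod hFv)).2 h1
    rw [ordK_mul _ hprod hFv, ordK_prod _ _ _ (fun x _ => pow_ne_zero _ (hd x))] at h2
    refine h2.trans (le_of_eq ?_)
    congr 1
    rw [Fintype.sum_sigma]
    refine Finset.sum_congr rfl fun i _ => ?_
    rw [← Equiv.sum_comp (Tuple.sort (wi i))]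
    refine Finset.sum_congr rfl fun j _ => ?_
    rw [ordK_pow _ (hd _), zm_apply]
  -- a finite set containing all supports
  have hfin : ((⋃ i, ⋃ j, {y : C1 X | o i j y ≠ 0}) ∪ {y : C1 X | ordK (X.presheaf.stalk y.1) Fv ≠ 0}).Finite :=
    (Set.finite_iUnion fun i => Set.finite_iUnion fun j => hfinord i j).union (finite_ordK hFv)
  let S := hfin.toFinset
  have hS1 : ∀ i j, ∀ y ∉ S, o i j y = 0 := by
    intro i j y hy
    by_contra h
    exact hy ((Set.Finite.mem_toFinset _).2 (Or.inl (Set.mem_iUnion.2 ⟨i, Set.mem_iUnion.2 ⟨j, h⟩⟩)))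
  have hS2 : ∀ y ∉ S, ordK (X.presheaf.stalk y.1) Fv = 0 := by
    intro y hy
    by_contra h
    exact hy ((Set.Finite.mem_toFinset _).2 (Or.inr h))
  let D : ∀ i, ℕ → ℚ := fun i l => Deg δ (sub (tw (T i) (Λ i)) (F (sB (B i) (wi i)) l))
  have hE : ∀ i j, ∑ y ∈ S, (o i j y : ℚ) * δ y = D i j - D i (j + 1) := by
    intro i j
    rw [← hsum i j]
    symm
    refine finsum_eq_sum_of_support_subset _ fun y hy => ?_
    by_contra h
    exact hy (by
      dsimp only
      rw [show ordK (X.presheaf.stalk y.1)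
        ((B i).repr (cy i y (Tuple.sort (wi i) j)) (Tuple.sort (wi i) j)) = 0 from hS1 i j y h, Int.cast_zero, zero_mul])
  have hE0 : ∑ y ∈ S, (ordK (X.presheaf.stalk y.1) Fv : ℚ) * δ y = 0 := by
    rw [← hδ Fv hFv]
    symm
    refine finsum_eq_sum_of_support_subset _ fun y hy => ?_
    by_contra h
    exact hy (by
      dsimp only
      rw [hS2 y h, Int.cast_zero, zero_mul])
  have htot : 0 ≤ ∑ i, ∑ j : Fin (r i), (w ⟨i, Tuple.sort (wi i) j⟩ : ℚ) * (D i j - D i (j + 1)) := by
    have h1 : 0 ≤ ∑ y ∈ S, ((∑ i, ∑ j, (w ⟨i, Tuple.sort (wi i) j⟩ : ℚ) * (o i j y : ℚ)) +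
        (ordK (X.presheaf.stalk y.1) Fv : ℚ)) * δ y := by
      refine Finset.sum_nonneg fun y _ => mul_nonneg ?_ (h0 y)
      have := hloc y
      exact_mod_cast this
    have h2 : ∑ y ∈ S, ((∑ i, ∑ j, (w ⟨i, Tuple.sort (wi i) j⟩ : ℚ) * (o i j y : ℚ)) +
        (ordK (X.presheaf.stalk y.1) Fv : ℚ)) * δ y =
        ∑ i, ∑ j : Fin (r i), (w ⟨i, Tuple.sort (wi i) j⟩ : ℚ) * (D i j - D i (j + 1)) := by
      simp only [add_mul, Finset.sum_add_distrib, hE0, add_zero, Finset.sum_mul]
      rw [Finset.sum_comm]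
      refine Finset.sum_congr rfl fun i _ => ?_
      rw [Finset.sum_comm]
      refine Finset.sum_congr rfl fun j _ => ?_
      rw [← hE i j, Finset.mul_sum]
      exact Finset.sum_congr rfl fun y _ => by ring
    rwa [h2] at h1
  -- Abel summation
  have hab : ∀ i, (D i (r i) / r i) * ∑ k, (w ⟨i, k⟩ : ℚ) ≤
      ∑ j : Fin (r i), (w ⟨i, Tuple.sort (wi i) j⟩ : ℚ) * (D i (j + 1) - D i j) := by
    intro i
    have hss := hst i m (V i) (T i)
    have hn : finrank X.functionField (V i) = r i := rfl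
    let w' : ℕ → ℚ := fun l => if h : l < r i then (w ⟨i, Tuple.sort (wi i) ⟨l, h⟩⟩ : ℚ) else 0
    have hw' : ∀ j : Fin (r i), w' j = w ⟨i, Tuple.sort (wi i) j⟩ := fun j => by
      simp only [w', dif_pos j.2]
    have htop : finrank X.functionField (V i ⧸ F (sB (B i) (wi i)) (r i)) = 0 := by
      rw [F_top]
      exact Module.finrank_zero_of_subsingleton
    have hDn : D i (r i) = Deg δ (tw (T i) (Λ i)) := deg_sub_top hδ (hΛ' i) _ htop
    have h1 := abel (r i) w' (by
      intro l hl
      simp only [w', dif_pos (show l < r i by omega), dif_pos hl]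
      have h2 := Tuple.monotone_sort (wi i) (show (⟨l, by omega⟩ : Fin (r i)) ≤ ⟨l + 1, hl⟩ by simp)
      simp only [Function.comp_apply] at h2
      exact_mod_cast h2) (D i) (by
      refine deg_sub_bot hδ (hΛ' i) _ ?_
      exact finrank_F _ (Nat.zero_le _)) (by
      intro l hl
      have h2 := hss (F (sB (B i) (wi i)) l)
      rw [finrank_F _ hl, hn] at h2
      rw [hDn]
      exact h2)
    rw [Finset.sum_range, Finset.sum_range] at h1
    simp only [hw'] at h1
    refine le_trans (le_of_eq ?_) h1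
    congr 1
    exact (Equiv.sum_comp (Tuple.sort (wi i)) (fun k => (w ⟨i, k⟩ : ℚ))).symm
  have hDr : ∀ i, D i (r i) = (p ^ m : ℕ) * Deg δ (Λ i) := by
    intro i
    have htop : finrank X.functionField (V i ⧸ F (sB (B i) (wi i)) (r i)) = 0 := by
      rw [F_top]
      exact Module.finrank_zero_of_subsingleton
    rw [← Deg_tw hδ (hΛ i) (T i) (b i)]
    exact deg_sub_top hδ (hΛ' i) _ htop
  have hws : ∀ i, ∑ k, (w ⟨i, k⟩ : ℚ) = N * (Finset.univ.filter fun a => c0 a = i).card := by
    intro i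
    have h1 := hwsum i
    have h2 : ∑ j ∈ Finset.univ.filter (fun j : Σ i, Fin (r i) => j.1 = i), w j = ∑ k, w ⟨i, k⟩ := by
      rw [Finset.sum_filter, Fintype.sum_sigma, Finset.sum_eq_single i]
      · simp
      · intro i' _ hi'
        simp [hi']
      · intro h
        exact absurd (Finset.mem_univ _) h
    rw [h2] at h1
    exact_mod_cast h1
  have hfinal : ∑ i, (((p ^ m : ℕ) * Deg δ (Λ i)) / r i) * (N * (Finset.univ.filter fun a => c0 a = i).card) ≤ 0 := by
    have h1 : ∑ i, (D i (r i) / r i) * ∑ k, (w ⟨i, k⟩ : ℚ) ≤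
        - ∑ i, ∑ j : Fin (r i), (w ⟨i, Tuple.sort (wi i) j⟩ : ℚ) * (D i j - D i (j + 1)) := by
      rw [← Finset.sum_neg_distrib]
      refine Finset.sum_le_sum fun i _ => (hab i).trans (le_of_eq ?_)
      rw [← Finset.sum_neg_distrib]
      exact Finset.sum_congr rfl fun j _ => by ring
    simp only [hDr, hws] at h1
    linarith
  have hq : (0 : ℚ) < (p ^ m : ℕ) * N := by
    have hp : 0 < p ^ m := pow_pos (Fact.out : p.Prime).pos m
    exact mul_pos (by exact_mod_cast hp) (by exact_mod_cast hN)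
  have hconv : ∑ a, Deg δ (Λ (c0 a)) / (finrank X.functionField (V (c0 a)) : ℚ) =
      ∑ i, (Deg δ (Λ i) / r i) * (Finset.univ.filter fun a => c0 a = i).card := by
    rw [← Finset.sum_fiberwise_of_maps_to (s := Finset.univ) (t := Finset.univ) (g := c0)
      (fun a _ => Finset.mem_univ _)]
    refine Finset.sum_congr rfl fun i _ => ?_
    rw [Finset.sum_congr rfl (g := fun _ => Deg δ (Λ i) / (r i : ℚ)) (fun a ha => by
      rw [(Finset.mem_filter.1 ha).2]), Finset.sum_const, nsmul_eq_mul, mul_comm]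
  rw [hconv]
  by_contra hcon
  have h1 := mul_pos hq (not_le.1 hcon)
  rw [Finset.mul_sum] at h1
  refine absurd hfinal (not_le.2 (lt_of_lt_of_eq h1 ?_))
  exact Finset.sum_congr rfl fun i _ => by ring

end K991.MTForm
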