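import Groth.Agent.ShStab.K849.DvrLat3

/-!
# Bases of lattices adapted to a complete flag
-/

set_option autoImplicit false

open Module

namespace K991.Iwas

open K849.DvrLat

section flag

variable {K : Type*} [Field K] {V : Type*} [AddCommGroup V] [Module K V] {n : ℕ}

/-- The flag of a basis. -/
def F (B : Basis (Fin n) K V) (l : ℕ) : Submodule K V where
  carrier := {v | ∀ j : Fin n, l ≤ (j : ℕ) → B.repr v j = 0}
  add_mem' {a b} ha hb j hj := by rw [map_add, Finsupp.add_apply, ha j hj, hb j hj, add_zero]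
  zero_mem' j hj := by rw [map_zero, Finsupp.zero_apply]
  smul_mem' c v hv j hj := by rw [map_smul, Finsupp.smul_apply, hv j hj, smul_zero]

theorem mem_F {B : Basis (Fin n) K V} {l : ℕ} {v : V} :
    v ∈ F B l ↔ ∀ j : Fin n, l ≤ (j : ℕ) → B.repr v j = 0 := Iff.rfl

theorem basis_mem_F (B : Basis (Fin n) K V) {l : ℕ} {j : Fin n} (h : (j : ℕ) < l) : B j ∈ F B l := by
  intro i hi
  rw [B.repr_self, Finsupp.single_apply, if_neg]
  rintro rfl
  omega

theorem F_mono (B : Basis (Fin n) K V) {l m : ℕ} (h : l ≤ m) : F B l ≤ F B m :=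
  fun _ hv j hj => hv j (h.trans hj)

theorem F_top (B : Basis (Fin n) K V) : F B n = ⊤ :=
  eq_top_iff.2 fun _ _ j hj => absurd j.2 (not_lt.2 hj)

theorem F_zero (B : Basis (Fin n) K V) : F B 0 = ⊥ := by
  refine eq_bot_iff.2 fun v hv => ?_
  rw [Submodule.mem_bot]
  apply B.ext_elem
  intro i
  rw [hv i (Nat.zero_le _), map_zero, Finsupp.zero_apply]

/-- The coordinates on a step of the flag. -/
noncomputable def eF (B : Basis (Fin n) K V) {l : ℕ} (hl : l ≤ n) : F B l ≃ₗ[K] (Fin l → K) where
  toFun v j := B.repr v (Fin.castLE hl j)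
  map_add' v w := by
    funext j
    rw [Pi.add_apply, Submodule.coe_add, map_add, Finsupp.add_apply]
  map_smul' a v := by
    funext j
    rw [Pi.smul_apply, Submodule.coe_smul, map_smul, Finsupp.smul_apply, RingHom.id_apply]
  invFun f := ⟨∑ j, f j • B (Fin.castLE hl j), Submodule.sum_mem _ fun j _ =>
    Submodule.smul_mem _ _ (basis_mem_F B (by simp))⟩
  left_inv v := by
    apply Subtype.ext
    apply B.ext_elem
    intro i
    simp only [map_sum, map_smul, B.repr_self, Finset.sum_apply', Finsupp.smul_apply, smul_eq_mul]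
    by_cases hi : (i : ℕ) < l
    · rw [Finset.sum_eq_single ⟨i, hi⟩]
      · simp
      · intro j _ hj
        rw [Finsupp.single_apply, if_neg, mul_zero]
        rintro rfl
        exact hj (by ext; simp)
      · intro h
        exact absurd (Finset.mem_univ _) h
    · rw [v.2 i (not_lt.1 hi), Finset.sum_eq_zero]
      intro j _
      rw [Finsupp.single_apply, if_neg, mul_zero]
      rintro rfl
      exact hi (by simp)
  right_inv f := by
    funext j
    simp only [map_sum, map_smul, B.repr_self, Finset.sum_apply', Finsupp.smul_apply, smul_eq_mul]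
    rw [Finset.sum_eq_single j]
    · simp
    · intro i _ hi
      rw [Finsupp.single_apply, if_neg, mul_zero]
      intro h
      exact hi (Fin.castLE_injective hl h)
    · intro h
      exact absurd (Finset.mem_univ _) h

/-- The basis of a step of the flag. -/
noncomputable def bF (B : Basis (Fin n) K V) {l : ℕ} (hl : l ≤ n) : Basis (Fin l) K (F B l) :=
  Basis.ofEquivFun (eF B hl)

theorem bF_repr (B : Basis (Fin n) K V) {l : ℕ} (hl : l ≤ n) (v : F B l) (j : Fin l) :
    (bF B hl).repr v j = B.repr v (Fin.castLE hl j) := by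
  rw [bF, Basis.ofEquivFun_repr_apply]
  rfl

theorem finrank_F (B : Basis (Fin n) K V) {l : ℕ} (hl : l ≤ n) : finrank K (F B l) = l := by
  rw [Module.finrank_eq_card_basis (bF B hl), Fintype.card_fin]

/-- Triangular families are bases. -/
theorem exists_basis_of_tri (B : Basis (Fin n) K V) (v : Fin n → V)
    (h : ∀ i j : Fin n, i < j → B.repr (v i) j = 0) (h0 : ∀ i, B.repr (v i) i ≠ 0) :
    ∃ c : Basis (Fin n) K V, (∀ i, c i = v i) ∧ B.det c = ∏ i, B.repr (v i) i := by
  have hdet : B.det v = ∏ i, B.repr (v i) i := by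
    rw [Basis.det_apply, Matrix.det_of_isUpperTriangular]
    · exact Finset.prod_congr rfl fun i _ => by rw [Basis.toMatrix_apply]
    · intro i j hij
      rw [Basis.toMatrix_apply]
      exact h j i hij
  have hu : IsUnit (B.det v) := by
    rw [hdet, isUnit_iff_ne_zero]
    exact Finset.prod_ne_zero_iff.2 fun i _ => h0 i
  obtain ⟨h1, h2⟩ := (Module.Basis.is_basis_iff_det B).2 hu
  refine ⟨Basis.mk h1 h2.ge, fun i => by rw [Basis.mk_apply], ?_⟩
  rw [Basis.coe_mk, hdet]

end flag

variable (R : Type*) [CommRing R] [IsDomain R] [IsDiscreteValuationRing R] {K : Type*} [Field K] [Algebra R K]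
  [IsFractionRing R K] {V : Type*} [AddCommGroup V] [Module K V] [Module R V] [IsScalarTower R K V] {n : ℕ}

/-- The generators of the successive quotients. -/
theorem exists_gen {Λ : Submodule R V} (h : IsLat R (K := K) Λ) (B : Basis (Fin n) K V) (i : Fin n) :
    ∃ v ∈ Λ, v ∈ F B (i + 1) ∧ B.repr v i ≠ 0 ∧
      ∀ v' ∈ Λ, v' ∈ F B (i + 1) → ∃ r : R, B.repr v' i = r • B.repr v i := by
  have hW := h.comap R (F B (i + 1))
  let f : F B (i + 1) →ₗ[K] K := (B.coord i).comp (F B (i + 1)).subtype
  have hf : Function.Surjective f := by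
    intro x
    refine ⟨⟨x • B i, Submodule.smul_mem _ _ (basis_mem_F B (Nat.lt_succ_self _))⟩, ?_⟩
    change B.coord i (x • B i) = x
    rw [map_smul, Basis.coord_apply, B.repr_self, Finsupp.single_eq_same, smul_eq_mul, mul_one]
  have hI := hW.map R f hf
  obtain ⟨c, hc⟩ := hI.exists_basis R (Basis.singleton Unit K)
  have h1 : c () ∈ (Submodule.comap ((F B (i + 1)).subtype.restrictScalars R) Λ).map (f.restrictScalars R) := by
    rw [hc]
    exact Submodule.subset_span ⟨(), rfl⟩
  obtain ⟨v, hv, hvc⟩ := h1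
  have hvc' : B.repr (v : V) i = c () := hvc
  refine ⟨v, hv, v.2, ?_, fun v' hv' hvF => ?_⟩
  · rw [hvc']
    exact c.ne_zero ()
  · have h2 : f ⟨v', hvF⟩ ∈ (Submodule.comap ((F B (i + 1)).subtype.restrictScalars R) Λ).map (f.restrictScalars R) :=
      ⟨⟨v', hvF⟩, hv', rfl⟩
    rw [hc, mem_sp_iff] at h2
    obtain ⟨r, hr⟩ := h2
    refine ⟨r (), ?_⟩
    rw [hvc']
    have h3 : B.repr v' i = ∑ i, r i • c i := hr
    rw [h3, Fintype.sum_unique]

/-- **Adapted bases.** -/
theorem exists_adapted {Λ : Submodule R V} (h : IsLat R (K := K) Λ) (B : Basis (Fin n) K V) :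
    ∃ c : Basis (Fin n) K V, Λ = sp R c ∧ (∀ i j : Fin n, i < j → B.repr (c i) j = 0) ∧
      (∀ i, B.repr (c i) i ≠ 0) ∧
      ∀ (l : ℕ) (hl : l ≤ n), idx R (bF B hl) (Λ.comap ((F B l).subtype.restrictScalars R)) =
        - ∑ j : Fin l, ordK R (B.repr (c (Fin.castLE hl j)) (Fin.castLE hl j)) := by
  choose v hvΛ hvF hv0 hvg using exists_gen R h B
  have htri : ∀ i j : Fin n, i < j → B.repr (v i) j = 0 := fun i j hij => hvF i j hij
  obtain ⟨c, hcv, -⟩ := exists_basis_of_tri B v htri hv0
  -- elimination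
  have helim : ∀ l : ℕ, l ≤ n → ∀ x ∈ Λ, x ∈ F B l →
      x ∈ Submodule.span R (v '' {j | (j : ℕ) < l}) := by
    intro l
    induction l with
    | zero =>
      intro _ x _ hx
      rw [F_zero, Submodule.mem_bot] at hx
      rw [hx]
      exact Submodule.zero_mem _
    | succ l ih =>
      intro hl x hxΛ hx
      let i : Fin n := ⟨l, hl⟩
      obtain ⟨r, hr⟩ := hvg i x hxΛ hx
      have h1 : x - r • v i ∈ F B l := by
        intro j hj
        rw [map_sub, Finsupp.sub_apply, ← algebraMap_smul K r (v i), map_smul, Finsupp.smul_apply, algebraMap_smul]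
        rcases eq_or_lt_of_le hj with hj' | hj'
        · have : j = i := Fin.ext hj'.symm
          rw [this, hr, sub_self]
        · rw [hx j hj', hvF i j hj', smul_zero, sub_zero]
      have h2 := ih (by omega) (x - r • v i) (Λ.sub_mem hxΛ (Λ.smul_mem r (hvΛ i))) h1
      have h3 : x = (x - r • v i) + r • v i := by abel
      rw [h3]
      refine Submodule.add_mem _ (Submodule.span_mono (Set.image_mono fun j hj => ?_) h2)
        (Submodule.smul_mem _ _ (Submodule.subset_span ⟨i, ?_, rfl⟩))
      · exact Nat.lt_succ_of_lt hj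
      · exact Nat.lt_succ_self l
  refine ⟨c, ?_, fun i j hij => by rw [hcv]; exact htri i j hij, fun i => by rw [hcv]; exact hv0 i, fun l hl => ?_⟩
  · refine le_antisymm (fun x hx => ?_) ?_
    · refine Submodule.span_mono ?_ (helim n le_rfl x hx (by rw [F_top]; trivial))
      rintro _ ⟨j, -, rfl⟩
      exact ⟨j, hcv j⟩
    · rw [sp, Submodule.span_le]
      rintro _ ⟨j, rfl⟩
      rw [hcv]
      exact hvΛ j
  · let w : Fin l → F B l := fun j => ⟨v (Fin.castLE hl j), F_mono B (by simp) (hvF (Fin.castLE hl j))⟩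
    obtain ⟨d, hdw, hdet⟩ := exists_basis_of_tri (bF B hl) w
      (fun i j hij => by rw [bF_repr]; exact htri _ _ (by simpa using hij))
      (fun i => by rw [bF_repr]; exact hv0 _)
    have h1 : Λ.comap ((F B l).subtype.restrictScalars R) = sp R d := by
      refine le_antisymm (fun x hx => ?_) ?_
      · have h2 := helim l hl x hx x.2
        have h3 : Submodule.span R (v '' {j | (j : ℕ) < l}) =
            (sp R d).map ((F B l).subtype.restrictScalars R) := by
          rw [sp, Submodule.map_span]
          congr 1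
          ext z
          constructor
          · rintro ⟨j, hj, rfl⟩
            refine ⟨d ⟨j, hj⟩, ⟨_, rfl⟩, ?_⟩
            rw [hdw]
            rfl
          · rintro ⟨_, ⟨j, rfl⟩, rfl⟩
            refine ⟨Fin.castLE hl j, ?_, ?_⟩
            · simp
            · rw [hdw]
              rfl
        rw [h3] at h2
        obtain ⟨z, hz, hzx⟩ := h2
        have : z = x := Subtype.ext hzx
        rwa [← this]
      · rw [sp, Submodule.span_le]
        rintro _ ⟨j, rfl⟩
        rw [hdw]
        exact hvΛ _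
    rw [h1, idx_sp, hdet, ordK_prod R _ _ (fun j _ => by rw [bF_repr]; exact hv0 _)]
    congr 1
    refine Finset.sum_congr rfl fun j _ => ?_
    rw [bF_repr, hcv]

end K991.Iwas
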