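import Groth.Agent.ShStab.K672.LA

/-!
# Tensors of multilinear forms, integrality of semi-invariants, Abel summation
-/

set_option autoImplicit false
set_option linter.unusedSectionVars false

open Module

namespace K991.TenForm

open K865.TenAct K991.Ten K672.Lev K672.LA

section tri

/-- The determinant of a triangular matrix, with respect to an injective position function. -/
theorem det_tri {m k : Type*} [Fintype m] [DecidableEq m] [CommRing k] (M : Matrix m m k) (pos : m → ℕ)
    (inj : Function.Injective pos) (h : ∀ a b, pos a < pos b → M a b = 0) : M.det = ∏ a, M a a := by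
  let _ : LinearOrder m := LinearOrder.lift' pos inj
  have h1 : M.IsLowerTriangular := fun a b hab => h a b hab
  have h2 := Matrix.det_of_isLowerTriangular M h1
  convert h2

/-- The block character of a matrix with triangular blocks. -/
theorem chi_tri {R B k : Type*} [Fintype R] [DecidableEq R] [CommRing k] [DecidableEq B] (b : R → B) (w : B → ℕ)
    (z : Matrix R R k) (pos : R → ℕ) (inj : ∀ i j, b i = b j → pos i = pos j → i = j)
    (h : ∀ i j, b i = b j → pos i < pos j → z i j = 0) : chi b w z = ∏ j, z j j ^ w (b j) := by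
  have h1 : ∀ β, bdet b z β = ∏ j ∈ Finset.univ.filter (fun j => b j = β), z j j := by
    intro β
    rw [bdet, det_tri (z.toSquareBlock b β) (fun a => pos a.1)
      (fun a a' haa => Subtype.ext (inj _ _ (a.2.trans a'.2.symm) haa))
      (fun a a' haa => h _ _ (a.2.trans a'.2.symm) haa)]
    exact (Finset.prod_subtype (Finset.univ.filter fun j => b j = β) (by simp) (fun j => z j j)).symm
  rw [chi]
  simp only [h1]
  rw [← Finset.prod_fiberwise_of_maps_to (s := Finset.univ) (t := Finset.univ.image b) (g := b)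
    (fun j _ => Finset.mem_image_of_mem b (Finset.mem_univ j)) (fun j => z j j ^ w (b j))]
  refine Finset.prod_congr rfl fun β _ => ?_
  rw [← Finset.prod_pow]
  refine Finset.prod_congr rfl fun j hj => ?_
  rw [(Finset.mem_filter.1 hj).2]

end tri

section int

variable {p : ℕ} {K : Type*} [Field K] [CharP K p] {O : Type*} [CommRing O] [CharP O p] [Algebra O K]
  {A R I : Type} [Fintype A] [Fintype R] [DecidableEq R] [DecidableEq I]

/-- **Integrality of the semi-invariant.** -/
theorem int_of {b0 : R → I} {w : R → ℕ} {c : ℕ} {s : (A → R) → K} (hs : ∀ J, s J ≠ 0 → c ≤ wt w J)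
    {f : MvPolynomial (A → R) (ZMod p)}
    (hf : ∀ h : Matrix R R K, IsBlk (fun j => (b0 j, w j)) h → ∀ x : (A → R) → K,
      ev p (act h x) f = chi (fun j => (b0 j, w j)) Prod.snd h * ev p x f)
    {z : Matrix R R K} (hb : IsBlk b0 z) (hz : IsPar w z) (pos : R → ℕ)
    (inj : ∀ i j, b0 i = b0 j → pos i = pos j → i = j)
    (htri : ∀ i j, b0 i = b0 j → pos i < pos j → z i j = 0)
    (hint : ∀ J, ∃ r : O, algebraMap O K r = act z s J) :
    ∃ r : O, algebraMap O K r = (∏ j, z j j ^ w j) * ev p (part w c s) f := by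
  have h1 := (act_par hz hs).2
  have h2 := hf (lev w z) (isBlk_lev hb) (part w c s)
  rw [← h1, chi_tri _ _ _ pos (fun i j hij => inj i j (Prod.ext_iff.1 hij).1) (fun i j hij hlt => by
    rw [lev]
    split_ifs
    · exact htri i j (Prod.ext_iff.1 hij).1 hlt
    · rfl)] at h2
  have h3 : ∀ J, ∃ r : O, algebraMap O K r = part w c (act z s) J := by
    intro J
    rw [part]
    split_ifs
    · exact hint J
    · exact ⟨0, map_zero _⟩
  choose x hx using h3
  refine ⟨ev p x f, ?_⟩
  rw [← ev_map (algebraMap O K) x f]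
  have h4 : (fun J => algebraMap O K (x J)) = part w c (act z s) := funext hx
  rw [h4, h2]
  congr 1
  refine Finset.prod_congr rfl fun j _ => ?_
  rw [lev, if_pos rfl]

end int

section form

variable {K : Type*} [Field K] {I : Type} [Fintype I] [DecidableEq I] {V : I → Type*} [∀ i, AddCommGroup (V i)]
  [∀ i, Module K (V i)] {ρ : I → Type} [∀ i, Fintype (ρ i)] [∀ i, DecidableEq (ρ i)]
  {A : Type} [Fintype A] [DecidableEq A] {c0 : A → I}

/-- The vector of index `j` in the component `i`. -/
def bv (b : ∀ i, ρ i → V i) (i : I) (j : Σ i, ρ i) : V i := (Pi.single j.1 (b j.1 j.2) : ∀ i, V i) i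

theorem bv_same (b : ∀ i, ρ i → V i) (i : I) (k : ρ i) : bv b i ⟨i, k⟩ = b i k := by
  rw [bv, Pi.single_eq_same]

theorem bv_ne (b : ∀ i, ρ i → V i) {i : I} {j : Σ i, ρ i} (h : j.1 ≠ i) : bv b i j = 0 := by
  rw [bv, Pi.single_eq_of_ne h.symm]

/-- The tensor of a multilinear form. -/
def ten (t : MultilinearMap K (fun a => V (c0 a)) K) (b : ∀ i, ρ i → V i) : (A → Σ i, ρ i) → K :=
  fun J => t fun a => bv b (c0 a) (J a)

theorem ten_supp (t : MultilinearMap K (fun a => V (c0 a)) K) (b : ∀ i, ρ i → V i) (J : A → Σ i, ρ i)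
    (h : ten t b J ≠ 0) (a : A) : (J a).1 = c0 a := by
  by_contra hne
  exact h (t.map_coord_zero a (bv_ne b hne))

theorem ten_ne_zero {t : MultilinearMap K (fun a => V (c0 a)) K} (ht : t ≠ 0) (b : ∀ i, Basis (ρ i) K (V i)) :
    ten t (fun i => b i) ≠ 0 := by
  intro h
  apply ht
  refine Basis.ext_multilinear (fun a => b (c0 a)) fun v => ?_
  have h1 := congrFun h (fun a => ⟨c0 a, v a⟩)
  rw [ten] at h1
  simp only [bv_same] at h1
  rw [h1]
  rfl

/-- Change of basis. -/
theorem ten_act (t : MultilinearMap K (fun a => V (c0 a)) K) (b b' : ∀ i, ρ i → V i)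
    (g : Matrix (Σ i, ρ i) (Σ i, ρ i) K) (hg : IsBlk Sigma.fst g)
    (h : ∀ i k, b' i k = ∑ l, g ⟨i, k⟩ ⟨i, l⟩ • b i l) : ten t b' = act g (ten t b) := by
  have h1 : ∀ (i : I) (j : Σ i, ρ i), bv b' i j = ∑ j', g j j' • bv b i j' := by
    intro i j
    by_cases hj : j.1 = i
    · subst hj
      obtain ⟨i, k⟩ := j
      rw [bv_same, h, Fintype.sum_sigma, Finset.sum_eq_single i]
      · exact Finset.sum_congr rfl fun l _ => by rw [bv_same]
      · intro i' _ hi'
        refine Finset.sum_eq_zero fun l _ => ?_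
        rw [bv_ne b (i := i) (j := ⟨i', l⟩) hi', smul_zero]
      · intro hi
        exact absurd (Finset.mem_univ _) hi
    · rw [bv_ne b' hj]
      symm
      refine Finset.sum_eq_zero fun j' _ => ?_
      by_cases hj' : j'.1 = i
      · rw [hg j j' (fun h2 => hj (h2.trans hj')), zero_smul]
      · rw [bv_ne b hj', smul_zero]
  funext J
  rw [ten, act_apply]
  simp only [h1]
  rw [MultilinearMap.map_sum]
  refine Finset.sum_congr rfl fun J' _ => ?_
  rw [MultilinearMap.map_smul_univ]
  rfl

/-- The matrix of a family of bases with respect to another one. -/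
noncomputable def zm (b : ∀ i, Basis (ρ i) K (V i)) (c : ∀ i, ρ i → V i) :
    Matrix (Σ i, ρ i) (Σ i, ρ i) K := Matrix.blockDiagonal' fun i => ((b i).toMatrix (c i)).transpose

theorem isBlk_blockDiagonal' (M : ∀ i, Matrix (ρ i) (ρ i) K) : IsBlk Sigma.fst (Matrix.blockDiagonal' M) := by
  rintro ⟨i, j⟩ ⟨i', j'⟩ h
  exact Matrix.blockDiagonal'_apply_ne _ _ _ h

theorem isBlk_zm (b : ∀ i, Basis (ρ i) K (V i)) (c : ∀ i, ρ i → V i) : IsBlk Sigma.fst (zm b c) :=
  isBlk_blockDiagonal' _

theorem zm_apply (b : ∀ i, Basis (ρ i) K (V i)) (c : ∀ i, ρ i → V i) (i : I) (k l : ρ i) :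
    zm b c ⟨i, k⟩ ⟨i, l⟩ = (b i).repr (c i k) l := by
  rw [zm, Matrix.blockDiagonal'_apply_eq, Matrix.transpose_apply, Basis.toMatrix_apply]

theorem zm_mul (b c : ∀ i, Basis (ρ i) K (V i)) (d : ∀ i, ρ i → V i) :
    zm c d * zm b (fun i => c i) = zm b d := by
  rw [zm, zm, zm, ← Matrix.blockDiagonal'_mul]
  congr 1
  funext i
  rw [← Matrix.transpose_mul, Basis.toMatrix_mul_toMatrix]

/-- The tensor in another basis. -/
theorem ten_zm (t : MultilinearMap K (fun a => V (c0 a)) K) (b : ∀ i, Basis (ρ i) K (V i)) (c : ∀ i, ρ i → V i) :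
    ten t c = act (zm b c) (ten t fun i => b i) := by
  refine ten_act t _ _ _ (isBlk_zm b c) fun i k => ?_
  conv_lhs => rw [← (b i).sum_repr (c i k)]
  exact Finset.sum_congr rfl fun l _ => by rw [zm_apply]

/-- A block-diagonal invertible matrix is a change of bases. -/
theorem exists_bases (b : ∀ i, Basis (ρ i) K (V i)) {g : Matrix (Σ i, ρ i) (Σ i, ρ i) K} (hg : IsBlk Sigma.fst g)
    (hu : IsUnit g.det) : ∃ B : ∀ i, Basis (ρ i) K (V i), g = zm b (fun i => B i) := by
  have h1 : g = Matrix.blockDiagonal' (Matrix.blockDiag' g) := by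
    ext ⟨i, j⟩ ⟨i', j'⟩
    by_cases h : i = i'
    · subst h
      rw [Matrix.blockDiagonal'_apply_eq, Matrix.blockDiag'_apply]
    · rw [Matrix.blockDiagonal'_apply_ne _ _ _ h, hg ⟨i, j⟩ ⟨i', j'⟩ h]
  have h2 : ∀ i, IsUnit (Matrix.blockDiag' g i).det := by
    intro i
    have h5 := isBlk_inv hg hu
    have h6 : Matrix.blockDiag' g i * Matrix.blockDiag' g⁻¹ i = 1 := by
      ext j k
      have h7 := congrFun (congrFun (Matrix.mul_nonsing_inv g hu) ⟨i, j⟩) ⟨i, k⟩
      rw [Matrix.mul_apply, Fintype.sum_sigma, Finset.sum_eq_single i] at h7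
      · rw [Matrix.mul_apply]
        refine h7.trans ?_
        rw [Matrix.one_apply, Matrix.one_apply]
        by_cases hjk : j = k
        · rw [if_pos hjk, if_pos (by rw [hjk])]
        · rw [if_neg hjk, if_neg (fun h8 => hjk (by simpa using h8))]
      · intro i' _ hi'
        refine Finset.sum_eq_zero fun l _ => ?_
        rw [hg ⟨i, j⟩ ⟨i', l⟩ (Ne.symm hi'), zero_mul]
      · intro hi
        exact absurd (Finset.mem_univ _) hi
    exact Matrix.isUnit_det_of_right_inverse h6
  let v : ∀ i, ρ i → V i := fun i k => ∑ l, Matrix.blockDiag' g i k l • b i l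
  have h3 : ∀ i, (b i).toMatrix (v i) = (Matrix.blockDiag' g i).transpose := by
    intro i
    ext l k
    rw [Basis.toMatrix_apply, Matrix.transpose_apply, Basis.repr_sum_self]
  have h4 : ∀ i, LinearIndependent K (v i) ∧ Submodule.span K (Set.range (v i)) = ⊤ := by
    intro i
    rw [Basis.is_basis_iff_det (b i), Basis.det_apply, h3, Matrix.det_transpose]
    exact h2 i
  refine ⟨fun i => Basis.mk (h4 i).1 (h4 i).2.ge, ?_⟩
  rw [h1, zm]
  congr 1
  funext i
  rw [Basis.coe_mk, h3, Matrix.transpose_transpose]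

end form

section abel

/-- **Abel summation.** -/
theorem abel (n : ℕ) (w : ℕ → ℚ) (hw : ∀ l, l + 1 < n → w l ≤ w (l + 1)) (D : ℕ → ℚ) (h0 : D 0 = 0)
    (hD : ∀ l, l ≤ n → (n : ℚ) * D l ≤ l * D n) :
    (D n / n) * ∑ l ∈ Finset.range n, w l ≤ ∑ l ∈ Finset.range n, w l * (D (l + 1) - D l) := by
  rcases Nat.eq_zero_or_pos n with hn | hn
  · subst hn
    simp
  have hn' : (0 : ℚ) < n := by exact_mod_cast hn
  let e : ℕ → ℚ := fun l => D l - l * (D n / n)
  have he0 : e 0 = 0 := by simp [e, h0]
  have hen : e n = 0 := by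
    simp only [e]
    field_simp
    ring
  have he : ∀ l, l ≤ n → e l ≤ 0 := by
    intro l hl
    have h1 := hD l hl
    have h2 : D l ≤ l * (D n / n) := by
      rw [mul_div_assoc', le_div_iff₀ hn']
      linarith
    simp only [e]
    linarith
  have key : ∀ k, k + 1 ≤ n → w k * e (k + 1) ≤ ∑ l ∈ Finset.range (k + 1), w l * (e (l + 1) - e l) := by
    intro k
    induction k with
    | zero =>
      intro _
      simp [he0]
    | succ k ih =>
      intro hk
      rw [Finset.sum_range_succ]
      have h1 := ih (by omega)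
      have h2 := hw k (by omega)
      have h3 := he (k + 1) (by omega)
      nlinarith
  obtain ⟨m, rfl⟩ : ∃ m, n = m + 1 := ⟨n - 1, by omega⟩
  have h4 := key m le_rfl
  rw [hen, mul_zero] at h4
  have h5 : ∀ l, w l * (e (l + 1) - e l) = w l * (D (l + 1) - D l) - w l * (D (m + 1) / ((m + 1 : ℕ) : ℚ)) := by
    intro l
    simp only [e]
    push_cast
    ring
  simp only [h5, Finset.sum_sub_distrib, ← Finset.sum_mul] at h4
  linarith

end abel

end K991.TenForm
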