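import Groth.Agent.ShStab.K991.FamT
import Groth.Agent.ShStab.K991.Iwas
import Groth.Agent.ShStab.K991.TenForm
import Groth.Agent.ShStab.K752.Ranks

/-!
# Strongly semistable families have no nonzero integral multilinear forms of positive slope
-/

set_option autoImplicit false
universe u
open CategoryTheory CategoryTheory.Limits AlgebraicGeometry Opposite TopologicalSpace Module

namespace K991.MTForm

open K849.DvrLat K849.CstTor K849.CstDeg K849.Fam K752.Semi K752.FamPair K752.FamFrob K752.FamDual K752.Ranks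
open K865.TenAct K991.Ten K991.FamT K991.Iwas K991.TenForm

section tw

variable {K : Type*} [Field K] {V V' : Type*} [AddCommGroup V] [Module K V] [AddCommGroup V'] [Module K V']
  {p m : ℕ} [Fact p.Prime] [CharP K p]

/-- Determinants and twists. -/
theorem det_tb {ι : Type} [Fintype ι] [DecidableEq ι] (T : Tw (p ^ m) K V V') (b c : Basis ι K V) :
    (T.tb b).det (T.tb c) = (b.det c) ^ p ^ m := by
  rw [Basis.det_apply, Basis.det_apply]
  have h1 : (T.tb b).toMatrix (T.tb c) = (iterateFrobenius K p m).mapMatrix (b.toMatrix c) := by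
    ext i j
    rw [RingHom.mapMatrix_apply, Matrix.map_apply, Basis.toMatrix_apply, Basis.toMatrix_apply, T.tb_apply c, T.repr_ψ,
      iterateFrobenius_def]
  rw [h1, ← RingHom.map_det, iterateFrobenius_def]

/-- The twist attached to a basis. -/
noncomputable def twB (p m : ℕ) [Fact p.Prime] [CharP K p] {n : ℕ} (b : Basis (Fin n) K V) : Tw (p ^ m) K V V where
  ψ :=
    { toFun := fun v => ∑ i, (b.repr v i) ^ p ^ m • b i
      map_zero' := by
        refine Finset.sum_eq_zero fun i _ => ?_
        rw [map_zero, Finsupp.zero_apply, zero_pow (pow_ne_zero m (Fact.out : p.Prime).ne_zero), zero_smul]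
      map_add' := fun v w => by
        rw [← Finset.sum_add_distrib]
        refine Finset.sum_congr rfl fun i _ => ?_
        rw [map_add, Finsupp.add_apply, add_pow_char_pow, add_smul] }
  smul a v := by
    change ∑ i, (b.repr (a • v) i) ^ p ^ m • b i = a ^ p ^ m • ∑ i, (b.repr v i) ^ p ^ m • b i
    rw [Finset.smul_sum]
    refine Finset.sum_congr rfl fun i _ => ?_
    rw [map_smul, Finsupp.smul_apply, smul_eq_mul, mul_pow, mul_smul]
  basis r b'' := by
    obtain rfl : r = n := by
      have h := Fintype.card_congr (b''.indexEquiv b)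
      simpa using h
    let v : Fin r → V := fun j => ∑ i, (b.repr (b'' j) i) ^ p ^ m • b i
    have h1 : b.toMatrix v = (iterateFrobenius K p m).mapMatrix (b.toMatrix b'') := by
      ext i j
      rw [RingHom.mapMatrix_apply, Matrix.map_apply, Basis.toMatrix_apply, Basis.toMatrix_apply,
        iterateFrobenius_def, Basis.repr_sum_self]
    have h2 : IsUnit (b.det v) := by
      rw [Basis.det_apply, h1, ← RingHom.map_det]
      exact (b.isUnit_det b'').map _
    obtain ⟨h3, h4⟩ := (Basis.is_basis_iff_det b).2 h2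
    exact ⟨Basis.mk h3 h4.ge, fun i => by rw [Basis.mk_apply]; rfl⟩

theorem twB_ψ {n : ℕ} (b : Basis (Fin n) K V) (v : V) (i : Fin n) :
    b.repr ((twB p m b).ψ v) i = (b.repr v i) ^ p ^ m := by
  change b.repr (∑ i, (b.repr v i) ^ p ^ m • b i) i = _
  rw [Basis.repr_sum_self]

end tw

variable {X : Scheme.{u}} [IsIntegral X] [RegOne X]

attribute [local instance 50] modAt

variable {V : Type u} [AddCommGroup V] [Module (X.presheaf.stalk (genericPoint X)) V]
  {V' : Type u} [AddCommGroup V'] [Module (X.presheaf.stalk (genericPoint X)) V']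
  {ι : Type} [Fintype ι] [DecidableEq ι] {p m : ℕ}

/-- **The degree of an iterated Frobenius twist.** -/
theorem Deg_tw [IsNoetherian X] [Fact p.Prime] [CharP X.functionField p] {δ : C1 X → ℚ} (hδ : IsPrin δ) {Λ : LFam X V}
    (h : IsFam Λ) (T : Tw (p ^ m) X.functionField V V') (b : Basis ι X.functionField V) :
    Deg δ (tw T Λ) = (p ^ m : ℕ) * Deg δ Λ := by
  rw [Deg_eq hδ (h.tw T b) (T.tb b), Deg_eq hδ h b, degB, degB, mul_finsum]
  refine finsum_congr fun y => ?_
  obtain ⟨c, hc⟩ := (h.lat y).exists_basis _ b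
  rw [tw_sp T hc, hc, idx_sp, idx_sp, det_tb, ordK_pow _ (K849.DvrLat.det_ne_zero b c)]
  push_cast
  ring

section sorted

variable {K : Type*} [Field K] {W : Type*} [AddCommGroup W] [Module K W] {n : ℕ}

/-- The basis ordered by the weights. -/
noncomputable def sB (B : Basis (Fin n) K W) (w : Fin n → ℕ) : Basis (Fin n) K W := B.reindex (Tuple.sort w).symm

theorem sB_repr (B : Basis (Fin n) K W) (w : Fin n → ℕ) (v : W) (j : Fin n) :
    (sB B w).repr v j = B.repr v (Tuple.sort w j) := by
  rw [sB, Basis.repr_reindex_apply, Equiv.symm_symm]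

theorem exists_adapted' (R : Type*) [CommRing R] [IsDomain R] [IsDiscreteValuationRing R] [Algebra R K]
    [IsFractionRing R K] [Module R W] [IsScalarTower R K W] {Λ : Submodule R W} (h : IsLat R (K := K) Λ)
    (B : Basis (Fin n) K W) (w : Fin n → ℕ) :
    ∃ c : Basis (Fin n) K W, Λ = sp R c ∧
      (∀ i j : Fin n, (Tuple.sort w).symm i < (Tuple.sort w).symm j → B.repr (c i) j = 0) ∧
      (∀ i, B.repr (c i) i ≠ 0) ∧
      ∀ (l : ℕ) (hl : l ≤ n), idx R (bF (sB B w) hl) (Λ.comap ((F (sB B w) l).subtype.restrictScalars R)) =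
        - ∑ j : Fin l, ordK R (B.repr (c (Tuple.sort w (Fin.castLE hl j))) (Tuple.sort w (Fin.castLE hl j))) := by
  obtain ⟨c, hc, htri, h0, hidx⟩ := exists_adapted R h (sB B w)
  have hr : ∀ i j, B.repr (c.reindex (Tuple.sort w) i) j =
      (sB B w).repr (c ((Tuple.sort w).symm i)) ((Tuple.sort w).symm j) := by
    intro i j
    rw [sB_repr, Equiv.apply_symm_apply, Basis.reindex_apply]
  refine ⟨c.reindex (Tuple.sort w), by rw [sp_reindex]; exact hc, fun i j hij => ?_, fun i => ?_, fun l hl => ?_⟩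
  · rw [hr]
    exact htri _ _ hij
  · rw [hr]
    exact h0 _
  · rw [hidx l hl]
    congr 1
    refine Finset.sum_congr rfl fun j _ => ?_
    rw [hr, Equiv.symm_apply_apply]

end sorted

/-- The degrees of the steps of a flag. -/
theorem exists_fam [IsNoetherian X] {δ : C1 X → ℚ} (hδ : IsPrin δ) {Λ : LFam X V} (h : IsFam Λ) {n : ℕ}
    (B : Basis (Fin n) X.functionField V) (w : Fin n → ℕ) :
    ∃ c : C1 X → Basis (Fin n) X.functionField V, (∀ y, Λ y = sp (X.presheaf.stalk y.1) (c y)) ∧
      (∀ y, ∀ i j : Fin n, (Tuple.sort w).symm i < (Tuple.sort w).symm j → B.repr (c y i) j = 0) ∧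
      (∀ y, ∀ i, B.repr (c y i) i ≠ 0) ∧
      (∀ j : Fin n, {y : C1 X | ordK (X.presheaf.stalk y.1)
        (B.repr (c y (Tuple.sort w j)) (Tuple.sort w j)) ≠ 0}.Finite) ∧
      (∀ j : Fin n, ∑ᶠ y : C1 X, (ordK (X.presheaf.stalk y.1)
        (B.repr (c y (Tuple.sort w j)) (Tuple.sort w j)) : ℚ) * δ y =
          Deg δ (sub Λ (F (sB B w) j)) - Deg δ (sub Λ (F (sB B w) (j + 1)))) := by
  have hfin : Module.Finite X.functionField V := Module.Finite.of_basis B
  choose c hc htri h0 hidx using fun y : C1 X => exists_adapted' (X.presheaf.stalk y.1) (h.lat y) B w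
  have hsub : ∀ l, IsFam (sub Λ (F (sB B w) l)) := fun l => fam_sub h _
  have key : ∀ (y : C1 X) (j : Fin n), ordK (X.presheaf.stalk y.1)
      (B.repr (c y (Tuple.sort w j)) (Tuple.sort w j)) =
        idx (X.presheaf.stalk y.1) (bF (sB B w) j.2.le) (sub Λ (F (sB B w) j) y) -
          idx (X.presheaf.stalk y.1) (bF (sB B w) (Nat.succ_le_of_lt j.2)) (sub Λ (F (sB B w) (j + 1)) y) := by
    intro y j
    have h1 := hidx y j j.2.le
    have h2 := hidx y (j + 1) (Nat.succ_le_of_lt j.2)
    rw [Fin.sum_univ_castSucc] at h2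
    have h3 : Fin.castLE (Nat.succ_le_of_lt j.2) (Fin.last (j : ℕ)) = j := rfl
    rw [h3] at h2
    have h4 : ∀ i : Fin (j : ℕ), Fin.castLE (Nat.succ_le_of_lt j.2) i.castSucc = Fin.castLE j.2.le i := fun _ => rfl
    simp only [h4] at h2
    rw [show idx (X.presheaf.stalk y.1) (bF (sB B w) j.2.le) (sub Λ (F (sB B w) j) y) = _ from h1,
      show idx (X.presheaf.stalk y.1) (bF (sB B w) (Nat.succ_le_of_lt j.2)) (sub Λ (F (sB B w) (j + 1)) y) = _ from h2]
    ring
  refine ⟨c, hc, htri, h0, fun j => ?_, fun j => ?_⟩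
  · refine (((hsub j).idx_fin (bF (sB B w) j.2.le)).union
      ((hsub (j + 1)).idx_fin (bF (sB B w) (Nat.succ_le_of_lt j.2)))).subset fun y hy => ?_
    by_contra hcon
    rw [Set.mem_union, not_or] at hcon
    obtain ⟨h1, h2⟩ := hcon
    rw [Set.mem_setOf_eq, not_not] at h1 h2
    apply hy
    rw [key, h1, h2, sub_zero]
  · rw [Deg_eq hδ (hsub j) (bF (sB B w) j.2.le), Deg_eq hδ (hsub (j + 1)) (bF (sB B w) (Nat.succ_le_of_lt j.2)),
      degB, degB, ← finsum_sub_distrib (supp_fin (hsub j) δ _) (supp_fin (hsub (j + 1)) δ _)]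
    refine finsum_congr fun y => ?_
    rw [key]
    push_cast
    ring

end K991.MTForm
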